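import Cfsg.Agent.Lib.Helper99.CHO.Defs2

/-!
# CHO (S1082): the D4 root elements in coordinates

`mk8 x1 x2 x3 x4 y1 y2 y3 y4` is the vector of `K^8` with these coordinates on
`e1 e2 e3 e4 f1 f2 f3 f4`; `actD r` is the action of the root element `ED4mat K r t` on it
(GENERATED from the table `nListD4`).  Corollary: [ISO-D4].
-/

set_option autoImplicit false
set_option linter.unusedSimpArgs false
set_option linter.unusedVariables false
set_option linter.unusedSectionVars false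
set_option linter.unnecessarySeqFocus false
open scoped MatrixGroups
open Matrix

namespace Cfsg.Agent.Lib.Helper79.CHO
open Cfsg.Agent.Lib.Helper99.CHO

universe u
variable {K : Type u} [Field K]

/-- a vector of `K^8` from its coordinates on `e1 e2 e3 e4 f1 f2 f3 f4` -/
def mk8 (x1 x2 x3 x4 y1 y2 y3 y4 : K) : Fin 4 ⊕ Fin 4 → K :=
  Sum.elim ![x1, x2, x3, x4] ![y1, y2, y3, y4]

theorem mk8_eta (v : Fin 4 ⊕ Fin 4 → K) :
    v = mk8 (v (Sum.inl 0)) (v (Sum.inl 1)) (v (Sum.inl 2)) (v (Sum.inl 3))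
      (v (Sum.inr 0)) (v (Sum.inr 1)) (v (Sum.inr 2)) (v (Sum.inr 3)) := by
  funext i
  rcases i with i | i <;> fin_cases i <;> rfl

theorem quadFormPlus_mk8 (x1 x2 x3 x4 y1 y2 y3 y4 : K) :
    Cfsg.quadFormPlus 4 K (mk8 x1 x2 x3 x4 y1 y2 y3 y4) = x1 * y1 + x2 * y2 + x3 * y3 + x4 * y4 := by
  simp [Cfsg.quadFormPlus, Fin.sum_univ_four, mk8]

theorem actD0 (t x1 x2 x3 x4 y1 y2 y3 y4 : K) :
    ED4mat K 0 t *ᵥ mk8 x1 x2 x3 x4 y1 y2 y3 y4
      = mk8 x1 x2 x3 x4 (y1 - t * x2) (y2 + t * x1) y3 y4 := by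
  funext i
  rcases i with i | i <;> fin_cases i <;>
  simp [ED4mat, ND4, tab3, nListD4, ix8, Matrix.mulVec, dotProduct,
    Fintype.sum_sum_type, Fin.sum_univ_four, Matrix.add_apply, Matrix.smul_apply,
    Matrix.one_apply, mk8] <;>
  try ring

theorem actD1 (t x1 x2 x3 x4 y1 y2 y3 y4 : K) :
    ED4mat K 1 t *ᵥ mk8 x1 x2 x3 x4 y1 y2 y3 y4
      = mk8 x1 x2 x3 x4 (y1 - t * x3) y2 (y3 + t * x1) y4 := by
  funext i
  rcases i with i | i <;> fin_cases i <;>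
  simp [ED4mat, ND4, tab3, nListD4, ix8, Matrix.mulVec, dotProduct,
    Fintype.sum_sum_type, Fin.sum_univ_four, Matrix.add_apply, Matrix.smul_apply,
    Matrix.one_apply, mk8] <;>
  try ring

theorem actD2 (t x1 x2 x3 x4 y1 y2 y3 y4 : K) :
    ED4mat K 2 t *ᵥ mk8 x1 x2 x3 x4 y1 y2 y3 y4
      = mk8 x1 x2 x3 (x4 + t * x1) (y1 - t * y4) y2 y3 y4 := by
  funext i
  rcases i with i | i <;> fin_cases i <;>
  simp [ED4mat, ND4, tab3, nListD4, ix8, Matrix.mulVec, dotProduct,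
    Fintype.sum_sum_type, Fin.sum_univ_four, Matrix.add_apply, Matrix.smul_apply,
    Matrix.one_apply, mk8] <;>
  try ring

theorem actD3 (t x1 x2 x3 x4 y1 y2 y3 y4 : K) :
    ED4mat K 3 t *ᵥ mk8 x1 x2 x3 x4 y1 y2 y3 y4
      = mk8 x1 x2 x3 x4 (y1 - t * x4) y2 y3 (y4 + t * x1) := by
  funext i
  rcases i with i | i <;> fin_cases i <;>
  simp [ED4mat, ND4, tab3, nListD4, ix8, Matrix.mulVec, dotProduct,
    Fintype.sum_sum_type, Fin.sum_univ_four, Matrix.add_apply, Matrix.smul_apply,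
    Matrix.one_apply, mk8] <;>
  try ring

theorem actD4 (t x1 x2 x3 x4 y1 y2 y3 y4 : K) :
    ED4mat K 4 t *ᵥ mk8 x1 x2 x3 x4 y1 y2 y3 y4
      = mk8 x1 x2 (x3 - t * x1) x4 (y1 + t * y3) y2 y3 y4 := by
  funext i
  rcases i with i | i <;> fin_cases i <;>
  simp [ED4mat, ND4, tab3, nListD4, ix8, Matrix.mulVec, dotProduct,
    Fintype.sum_sum_type, Fin.sum_univ_four, Matrix.add_apply, Matrix.smul_apply,
    Matrix.one_apply, mk8] <;>
  try ring

theorem actD5 (t x1 x2 x3 x4 y1 y2 y3 y4 : K) :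
    ED4mat K 5 t *ᵥ mk8 x1 x2 x3 x4 y1 y2 y3 y4
      = mk8 x1 (x2 + t * x1) x3 x4 (y1 - t * y2) y2 y3 y4 := by
  funext i
  rcases i with i | i <;> fin_cases i <;>
  simp [ED4mat, ND4, tab3, nListD4, ix8, Matrix.mulVec, dotProduct,
    Fintype.sum_sum_type, Fin.sum_univ_four, Matrix.add_apply, Matrix.smul_apply,
    Matrix.one_apply, mk8] <;>
  try ring

theorem actD6 (t x1 x2 x3 x4 y1 y2 y3 y4 : K) :
    ED4mat K 6 t *ᵥ mk8 x1 x2 x3 x4 y1 y2 y3 y4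
      = mk8 x1 x2 x3 x4 y1 (y2 + t * x3) (y3 - t * x2) y4 := by
  funext i
  rcases i with i | i <;> fin_cases i <;>
  simp [ED4mat, ND4, tab3, nListD4, ix8, Matrix.mulVec, dotProduct,
    Fintype.sum_sum_type, Fin.sum_univ_four, Matrix.add_apply, Matrix.smul_apply,
    Matrix.one_apply, mk8] <;>
  try ring

theorem actD7 (t x1 x2 x3 x4 y1 y2 y3 y4 : K) :
    ED4mat K 7 t *ᵥ mk8 x1 x2 x3 x4 y1 y2 y3 y4
      = mk8 x1 x2 x3 (x4 - t * x2) y1 (y2 + t * y4) y3 y4 := by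
  funext i
  rcases i with i | i <;> fin_cases i <;>
  simp [ED4mat, ND4, tab3, nListD4, ix8, Matrix.mulVec, dotProduct,
    Fintype.sum_sum_type, Fin.sum_univ_four, Matrix.add_apply, Matrix.smul_apply,
    Matrix.one_apply, mk8] <;>
  try ring

theorem actD8 (t x1 x2 x3 x4 y1 y2 y3 y4 : K) :
    ED4mat K 8 t *ᵥ mk8 x1 x2 x3 x4 y1 y2 y3 y4
      = mk8 x1 x2 x3 x4 y1 (y2 + t * x4) y3 (y4 - t * x2) := by
  funext i
  rcases i with i | i <;> fin_cases i <;>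
  simp [ED4mat, ND4, tab3, nListD4, ix8, Matrix.mulVec, dotProduct,
    Fintype.sum_sum_type, Fin.sum_univ_four, Matrix.add_apply, Matrix.smul_apply,
    Matrix.one_apply, mk8] <;>
  try ring

theorem actD9 (t x1 x2 x3 x4 y1 y2 y3 y4 : K) :
    ED4mat K 9 t *ᵥ mk8 x1 x2 x3 x4 y1 y2 y3 y4
      = mk8 x1 x2 (x3 + t * x2) x4 y1 (y2 - t * y3) y3 y4 := by
  funext i
  rcases i with i | i <;> fin_cases i <;>
  simp [ED4mat, ND4, tab3, nListD4, ix8, Matrix.mulVec, dotProduct,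
    Fintype.sum_sum_type, Fin.sum_univ_four, Matrix.add_apply, Matrix.smul_apply,
    Matrix.one_apply, mk8] <;>
  try ring

theorem actD10 (t x1 x2 x3 x4 y1 y2 y3 y4 : K) :
    ED4mat K 10 t *ᵥ mk8 x1 x2 x3 x4 y1 y2 y3 y4
      = mk8 x1 x2 x3 (x4 + t * x3) y1 y2 (y3 - t * y4) y4 := by
  funext i
  rcases i with i | i <;> fin_cases i <;>
  simp [ED4mat, ND4, tab3, nListD4, ix8, Matrix.mulVec, dotProduct,
    Fintype.sum_sum_type, Fin.sum_univ_four, Matrix.add_apply, Matrix.smul_apply,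
    Matrix.one_apply, mk8] <;>
  try ring

theorem actD11 (t x1 x2 x3 x4 y1 y2 y3 y4 : K) :
    ED4mat K 11 t *ᵥ mk8 x1 x2 x3 x4 y1 y2 y3 y4
      = mk8 x1 x2 x3 x4 y1 y2 (y3 - t * x4) (y4 + t * x3) := by
  funext i
  rcases i with i | i <;> fin_cases i <;>
  simp [ED4mat, ND4, tab3, nListD4, ix8, Matrix.mulVec, dotProduct,
    Fintype.sum_sum_type, Fin.sum_univ_four, Matrix.add_apply, Matrix.smul_apply,
    Matrix.one_apply, mk8] <;>
  try ring

theorem actD12 (t x1 x2 x3 x4 y1 y2 y3 y4 : K) :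
    ED4mat K 12 t *ᵥ mk8 x1 x2 x3 x4 y1 y2 y3 y4
      = mk8 x1 x2 (x3 + t * y4) (x4 - t * y3) y1 y2 y3 y4 := by
  funext i
  rcases i with i | i <;> fin_cases i <;>
  simp [ED4mat, ND4, tab3, nListD4, ix8, Matrix.mulVec, dotProduct,
    Fintype.sum_sum_type, Fin.sum_univ_four, Matrix.add_apply, Matrix.smul_apply,
    Matrix.one_apply, mk8] <;>
  try ring

theorem actD13 (t x1 x2 x3 x4 y1 y2 y3 y4 : K) :
    ED4mat K 13 t *ᵥ mk8 x1 x2 x3 x4 y1 y2 y3 y4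
      = mk8 x1 x2 (x3 + t * x4) x4 y1 y2 y3 (y4 - t * y3) := by
  funext i
  rcases i with i | i <;> fin_cases i <;>
  simp [ED4mat, ND4, tab3, nListD4, ix8, Matrix.mulVec, dotProduct,
    Fintype.sum_sum_type, Fin.sum_univ_four, Matrix.add_apply, Matrix.smul_apply,
    Matrix.one_apply, mk8] <;>
  try ring

theorem actD14 (t x1 x2 x3 x4 y1 y2 y3 y4 : K) :
    ED4mat K 14 t *ᵥ mk8 x1 x2 x3 x4 y1 y2 y3 y4
      = mk8 x1 (x2 + t * x3) x3 x4 y1 y2 (y3 - t * y2) y4 := by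
  funext i
  rcases i with i | i <;> fin_cases i <;>
  simp [ED4mat, ND4, tab3, nListD4, ix8, Matrix.mulVec, dotProduct,
    Fintype.sum_sum_type, Fin.sum_univ_four, Matrix.add_apply, Matrix.smul_apply,
    Matrix.one_apply, mk8] <;>
  try ring

theorem actD15 (t x1 x2 x3 x4 y1 y2 y3 y4 : K) :
    ED4mat K 15 t *ᵥ mk8 x1 x2 x3 x4 y1 y2 y3 y4
      = mk8 x1 (x2 - t * y4) x3 (x4 + t * y2) y1 y2 y3 y4 := by
  funext i
  rcases i with i | i <;> fin_cases i <;>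
  simp [ED4mat, ND4, tab3, nListD4, ix8, Matrix.mulVec, dotProduct,
    Fintype.sum_sum_type, Fin.sum_univ_four, Matrix.add_apply, Matrix.smul_apply,
    Matrix.one_apply, mk8] <;>
  try ring

theorem actD16 (t x1 x2 x3 x4 y1 y2 y3 y4 : K) :
    ED4mat K 16 t *ᵥ mk8 x1 x2 x3 x4 y1 y2 y3 y4
      = mk8 x1 (x2 - t * x4) x3 x4 y1 y2 y3 (y4 + t * y2) := by
  funext i
  rcases i with i | i <;> fin_cases i <;>
  simp [ED4mat, ND4, tab3, nListD4, ix8, Matrix.mulVec, dotProduct,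
    Fintype.sum_sum_type, Fin.sum_univ_four, Matrix.add_apply, Matrix.smul_apply,
    Matrix.one_apply, mk8] <;>
  try ring

theorem actD17 (t x1 x2 x3 x4 y1 y2 y3 y4 : K) :
    ED4mat K 17 t *ᵥ mk8 x1 x2 x3 x4 y1 y2 y3 y4
      = mk8 x1 (x2 - t * y3) (x3 + t * y2) x4 y1 y2 y3 y4 := by
  funext i
  rcases i with i | i <;> fin_cases i <;>
  simp [ED4mat, ND4, tab3, nListD4, ix8, Matrix.mulVec, dotProduct,
    Fintype.sum_sum_type, Fin.sum_univ_four, Matrix.add_apply, Matrix.smul_apply,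
    Matrix.one_apply, mk8] <;>
  try ring

theorem actD18 (t x1 x2 x3 x4 y1 y2 y3 y4 : K) :
    ED4mat K 18 t *ᵥ mk8 x1 x2 x3 x4 y1 y2 y3 y4
      = mk8 (x1 + t * x2) x2 x3 x4 y1 (y2 - t * y1) y3 y4 := by
  funext i
  rcases i with i | i <;> fin_cases i <;>
  simp [ED4mat, ND4, tab3, nListD4, ix8, Matrix.mulVec, dotProduct,
    Fintype.sum_sum_type, Fin.sum_univ_four, Matrix.add_apply, Matrix.smul_apply,
    Matrix.one_apply, mk8] <;>
  try ring

theorem actD19 (t x1 x2 x3 x4 y1 y2 y3 y4 : K) :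
    ED4mat K 19 t *ᵥ mk8 x1 x2 x3 x4 y1 y2 y3 y4
      = mk8 (x1 - t * x3) x2 x3 x4 y1 y2 (y3 + t * y1) y4 := by
  funext i
  rcases i with i | i <;> fin_cases i <;>
  simp [ED4mat, ND4, tab3, nListD4, ix8, Matrix.mulVec, dotProduct,
    Fintype.sum_sum_type, Fin.sum_univ_four, Matrix.add_apply, Matrix.smul_apply,
    Matrix.one_apply, mk8] <;>
  try ring

theorem actD20 (t x1 x2 x3 x4 y1 y2 y3 y4 : K) :
    ED4mat K 20 t *ᵥ mk8 x1 x2 x3 x4 y1 y2 y3 y4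
      = mk8 (x1 + t * y4) x2 x3 (x4 - t * y1) y1 y2 y3 y4 := by
  funext i
  rcases i with i | i <;> fin_cases i <;>
  simp [ED4mat, ND4, tab3, nListD4, ix8, Matrix.mulVec, dotProduct,
    Fintype.sum_sum_type, Fin.sum_univ_four, Matrix.add_apply, Matrix.smul_apply,
    Matrix.one_apply, mk8] <;>
  try ring

theorem actD21 (t x1 x2 x3 x4 y1 y2 y3 y4 : K) :
    ED4mat K 21 t *ᵥ mk8 x1 x2 x3 x4 y1 y2 y3 y4
      = mk8 (x1 + t * x4) x2 x3 x4 y1 y2 y3 (y4 - t * y1) := by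
  funext i
  rcases i with i | i <;> fin_cases i <;>
  simp [ED4mat, ND4, tab3, nListD4, ix8, Matrix.mulVec, dotProduct,
    Fintype.sum_sum_type, Fin.sum_univ_four, Matrix.add_apply, Matrix.smul_apply,
    Matrix.one_apply, mk8] <;>
  try ring

theorem actD22 (t x1 x2 x3 x4 y1 y2 y3 y4 : K) :
    ED4mat K 22 t *ᵥ mk8 x1 x2 x3 x4 y1 y2 y3 y4
      = mk8 (x1 + t * y3) x2 (x3 - t * y1) x4 y1 y2 y3 y4 := by
  funext i
  rcases i with i | i <;> fin_cases i <;>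
  simp [ED4mat, ND4, tab3, nListD4, ix8, Matrix.mulVec, dotProduct,
    Fintype.sum_sum_type, Fin.sum_univ_four, Matrix.add_apply, Matrix.smul_apply,
    Matrix.one_apply, mk8] <;>
  try ring

theorem actD23 (t x1 x2 x3 x4 y1 y2 y3 y4 : K) :
    ED4mat K 23 t *ᵥ mk8 x1 x2 x3 x4 y1 y2 y3 y4
      = mk8 (x1 + t * y2) (x2 - t * y1) x3 x4 y1 y2 y3 y4 := by
  funext i
  rcases i with i | i <;> fin_cases i <;>
  simp [ED4mat, ND4, tab3, nListD4, ix8, Matrix.mulVec, dotProduct,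
    Fintype.sum_sum_type, Fin.sum_univ_four, Matrix.add_apply, Matrix.smul_apply,
    Matrix.one_apply, mk8] <;>
  try ring

/-- [ISO-D4]: the root elements are isometries of `Σ x_i y_i`. -/
theorem pkgIsoD4 : PkgIsoD4.{u} := by
  intro K _ r t hr v
  rw [mk8_eta v]
  interval_cases r
  · rw [actD0, quadFormPlus_mk8, quadFormPlus_mk8]; ring
  · rw [actD1, quadFormPlus_mk8, quadFormPlus_mk8]; ring
  · rw [actD2, quadFormPlus_mk8, quadFormPlus_mk8]; ring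
  · rw [actD3, quadFormPlus_mk8, quadFormPlus_mk8]; ring
  · rw [actD4, quadFormPlus_mk8, quadFormPlus_mk8]; ring
  · rw [actD5, quadFormPlus_mk8, quadFormPlus_mk8]; ring
  · rw [actD6, quadFormPlus_mk8, quadFormPlus_mk8]; ring
  · rw [actD7, quadFormPlus_mk8, quadFormPlus_mk8]; ring
  · rw [actD8, quadFormPlus_mk8, quadFormPlus_mk8]; ring
  · rw [actD9, quadFormPlus_mk8, quadFormPlus_mk8]; ring
  · rw [actD10, quadFormPlus_mk8, quadFormPlus_mk8]; ring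
  · rw [actD11, quadFormPlus_mk8, quadFormPlus_mk8]; ring
  · rw [actD12, quadFormPlus_mk8, quadFormPlus_mk8]; ring
  · rw [actD13, quadFormPlus_mk8, quadFormPlus_mk8]; ring
  · rw [actD14, quadFormPlus_mk8, quadFormPlus_mk8]; ring
  · rw [actD15, quadFormPlus_mk8, quadFormPlus_mk8]; ring
  · rw [actD16, quadFormPlus_mk8, quadFormPlus_mk8]; ring
  · rw [actD17, quadFormPlus_mk8, quadFormPlus_mk8]; ring
  · rw [actD18, quadFormPlus_mk8, quadFormPlus_mk8]; ring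
  · rw [actD19, quadFormPlus_mk8, quadFormPlus_mk8]; ring
  · rw [actD20, quadFormPlus_mk8, quadFormPlus_mk8]; ring
  · rw [actD21, quadFormPlus_mk8, quadFormPlus_mk8]; ring
  · rw [actD22, quadFormPlus_mk8, quadFormPlus_mk8]; ring
  · rw [actD23, quadFormPlus_mk8, quadFormPlus_mk8]; ring

end Cfsg.Agent.Lib.Helper79.CHO
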