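import Cfsg.Agent.Lib.Helper79.CHO.EqD4Base

/-!
# CHO (S1082), package [EQUIV-D4]: the kernel checks of the roots 6..11
-/

set_option autoImplicit false
set_option maxRecDepth 1000000

namespace Cfsg.Agent.Lib.Helper79.CHO

open Cfsg.Lie Cfsg.Agent.Lib.Helper17 Cfsg.Agent.Lib.Helper99.CHO Cfsg.Agent.Lib.Helper36.CHO

theorem d4_chk6 : chkRoot chevD4 8 d4bZ d4Ep 6 = true := by decide +kernel

theorem d4_chk7 : chkRoot chevD4 8 d4bZ d4Ep 7 = true := by decide +kernel

theorem d4_chk8 : chkRoot chevD4 8 d4bZ d4Ep 8 = true := by decide +kernel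

theorem d4_chk9 : chkRoot chevD4 8 d4bZ d4Ep 9 = true := by decide +kernel

theorem d4_chk10 : chkRoot chevD4 8 d4bZ d4Ep 10 = true := by decide +kernel

theorem d4_chk11 : chkRoot chevD4 8 d4bZ d4Ep 11 = true := by decide +kernel

end Cfsg.Agent.Lib.Helper79.CHO
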