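import Cfsg.Agent.Lib.Helper79.CHO.EqD4Base

/-!
# CHO (S1082), package [EQUIV-D4]: the kernel checks of the roots 12..17
-/

set_option autoImplicit false
set_option maxRecDepth 1000000

namespace Cfsg.Agent.Lib.Helper79.CHO

open Cfsg.Lie Cfsg.Agent.Lib.Helper17 Cfsg.Agent.Lib.Helper99.CHO Cfsg.Agent.Lib.Helper36.CHO

theorem d4_chk12 : chkRoot chevD4 8 d4bZ d4Ep 12 = true := by decide +kernel

theorem d4_chk13 : chkRoot chevD4 8 d4bZ d4Ep 13 = true := by decide +kernel

theorem d4_chk14 : chkRoot chevD4 8 d4bZ d4Ep 14 = true := by decide +kernel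

theorem d4_chk15 : chkRoot chevD4 8 d4bZ d4Ep 15 = true := by decide +kernel

theorem d4_chk16 : chkRoot chevD4 8 d4bZ d4Ep 16 = true := by decide +kernel

theorem d4_chk17 : chkRoot chevD4 8 d4bZ d4Ep 17 = true := by decide +kernel

end Cfsg.Agent.Lib.Helper79.CHO
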