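import Cfsg.Agent.Lib.Helper79.CHO.EqD4A
import Cfsg.Agent.Lib.Helper79.CHO.EqD4B
import Cfsg.Agent.Lib.Helper79.CHO.EqD4C
import Cfsg.Agent.Lib.Helper79.CHO.EqD4D

/-!
# CHO (S1082), package [EQUIV-D4], every root

Conjugation by the root element `E_r(t) = 1 + t N_r` on the model Lie algebra is given by the
matrix `chevD4.xMat K r t`: helper36's reflective engine, checked one root at a time
(24 kernel checks of about 12 s each, in four files).
-/

set_option autoImplicit false

namespace Cfsg.Agent.Lib.Helper79.CHO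

open Cfsg.Lie Cfsg.Agent.Lib.Helper99.CHO

universe u

/-- package [EQUIV-D4-r], every `r < 24` -/
theorem pkgEquivD4 : ∀ r, r < 24 → PkgEquivD4At.{u} r := by
  intro r hr
  interval_cases r
  · exact pkgEquivD4At_of_chk 0 (by decide) d4_chk0
  · exact pkgEquivD4At_of_chk 1 (by decide) d4_chk1
  · exact pkgEquivD4At_of_chk 2 (by decide) d4_chk2
  · exact pkgEquivD4At_of_chk 3 (by decide) d4_chk3
  · exact pkgEquivD4At_of_chk 4 (by decide) d4_chk4
  · exact pkgEquivD4At_of_chk 5 (by decide) d4_chk5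
  · exact pkgEquivD4At_of_chk 6 (by decide) d4_chk6
  · exact pkgEquivD4At_of_chk 7 (by decide) d4_chk7
  · exact pkgEquivD4At_of_chk 8 (by decide) d4_chk8
  · exact pkgEquivD4At_of_chk 9 (by decide) d4_chk9
  · exact pkgEquivD4At_of_chk 10 (by decide) d4_chk10
  · exact pkgEquivD4At_of_chk 11 (by decide) d4_chk11
  · exact pkgEquivD4At_of_chk 12 (by decide) d4_chk12
  · exact pkgEquivD4At_of_chk 13 (by decide) d4_chk13
  · exact pkgEquivD4At_of_chk 14 (by decide) d4_chk14
  · exact pkgEquivD4At_of_chk 15 (by decide) d4_chk15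
  · exact pkgEquivD4At_of_chk 16 (by decide) d4_chk16
  · exact pkgEquivD4At_of_chk 17 (by decide) d4_chk17
  · exact pkgEquivD4At_of_chk 18 (by decide) d4_chk18
  · exact pkgEquivD4At_of_chk 19 (by decide) d4_chk19
  · exact pkgEquivD4At_of_chk 20 (by decide) d4_chk20
  · exact pkgEquivD4At_of_chk 21 (by decide) d4_chk21
  · exact pkgEquivD4At_of_chk 22 (by decide) d4_chk22
  · exact pkgEquivD4At_of_chk 23 (by decide) d4_chk23

end Cfsg.Agent.Lib.Helper79.CHO
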