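import Cfsg.Agent.Lib.Helper36.CHO.Equiv
import Cfsg.Agent.Lib.Helper17.ChevCFD4
import Cfsg.Agent.Lib.Helper99.CHO.Defs

/-!
# CHO (S1082), package [EQUIV-D4]: helper36's reflective engine, ONE ROOT AT A TIME

`equiv_of_chkRoot`: the soundness of the check of a single root (the proof of
`Helper36.CHO.equiv_of_chk`, which only uses the check of the root at hand), and the
identification of the engine's model with the tables `nListD4`, `hListD4`.
-/

set_option autoImplicit false

namespace Cfsg.Agent.Lib.Helper79.CHO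

open Cfsg.Lie Cfsg.Agent.Lib.Helper17 Cfsg.Agent.Lib.Helper99.CHO Cfsg.Agent.Lib.Helper36.CHO

universe u

section
variable (D : ChevalleyDatum) (n : ℕ) (bZ : ℕ → ℕ → ℕ → ℤ) (Ep : ℕ → ℕ → ℕ → List ℤ)
variable (K : Type*) [Field K]

/-- soundness of the check of ONE root -/
theorem equiv_of_chkRoot (htab : tabOK D = true) (r : Fin D.nroots)
    (h1 : chkRoot D n bZ Ep r.val = true) (t : K) (I : D.Idx) :
    EK n Ep K r.val t * bK n bZ K (code D I) =
      (∑ J : D.Idx, D.xMat K r t J I • bK n bZ K (code D J)) * EK n Ep K r.val t := by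
  have hk := code_lt I
  unfold chkRoot at h1
  rw [allN_iff] at h1
  have h2 := h1 (code D I) hk
  unfold chkCol at h2
  rw [allN_iff] at h2
  have hcol := colSV_sound (F := K) htab r 1 1 0 t 1 (code D I) 1 0 0
  have e1 : (((1 : ℤ) : K) * t ^ 1 * (1 : K) ^ 0) = t := by simp
  have e2 : ((((1 : ℤ) : K) * t ^ 0 * (1 : K) ^ 0) • bvec D K (code D I)) = bvec D K (code D I) := by
    simp
  rw [e1, e2] at hcol
  rw [beta_col, hcol, beta_svSem]
  ext i j
  have h3 := h2 i.val i.2
  rw [allN_iff] at h3
  have h4 := h3 j.val j.2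
  unfold chkEntry at h4
  have h5 := ev_of_pzero t _ h4
  rw [ev_padd, ev_pscale] at h5
  have h6 : ev t (lhsP n bZ Ep r.val (code D I) i.val j.val) =
      ev t (rhsP D n bZ Ep (colSV D r.val 1 1 0 (code D I) 1 0 0) r.val i.val j.val) := by
    have : ((((-1 : ℤ)) : ℤ) : K) = -1 := by push_cast; ring
    rw [this] at h5
    linear_combination h5
  have hl : (EK n Ep K r.val t * bK n bZ K (code D I)) i j =
      ev t (lhsP n bZ Ep r.val (code D I) i.val j.val) := by
    rw [Matrix.mul_apply]
    unfold lhsP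
    rw [ev_sumN, ← Fin.sum_univ_eq_sum_range
      (fun l => ev t (pscale (bZ (code D I) l j.val) (Ep r.val i.val l))) n]
    apply Finset.sum_congr rfl
    intro l _
    rw [ev_pscale]
    simp only [EK, bK, Matrix.of_apply]
    ring
  have hr : ((List.map (fun e : ℕ × ℤ × ℕ × ℕ =>
      (((e.2.1 : ℤ) : K) * t ^ e.2.2.1 * (1 : K) ^ e.2.2.2) • gK D n bZ K e.1)
      (colSV D r.val 1 1 0 (code D I) 1 0 0)).sum * EK n Ep K r.val t) i j =
      ev t (rhsP D n bZ Ep (colSV D r.val 1 1 0 (code D I) 1 0 0) r.val i.val j.val) := by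
    unfold rhsP
    rw [ev_sumL]
    generalize colSV D r.val 1 1 0 (code D I) 1 0 0 = L
    induction L with
    | nil => simp
    | cons e L ih =>
      rw [List.map_cons, List.sum_cons, Matrix.add_mul, Matrix.add_apply, ih, List.map_cons,
        List.sum_cons]
      congr 1
      rw [ev_pshift, ev_sumN, Matrix.mul_apply, ← Fin.sum_univ_eq_sum_range
        (fun l => ev t (pscale (Int.mul e.2.1 (gZ D bZ e.1 i.val l)) (Ep r.val l j.val))) n,
        Finset.mul_sum]
      apply Finset.sum_congr rfl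
      intro l _
      rw [ev_pscale]
      have : Int.mul e.2.1 (gZ D bZ e.1 i.val l.val) = e.2.1 * gZ D bZ e.1 i.val l.val := rfl
      rw [this]
      simp only [EK, gK, Matrix.of_apply, Matrix.smul_apply, smul_eq_mul, one_pow, mul_one]
      push_cast
      ring
  rw [hl, hr, h6]

/-- the same identity for matrices indexed by any type in bijection with `Fin n` -/
theorem equiv_of_chkRoot_reindex {ι : Type*} [Fintype ι] [DecidableEq ι] (e : ι ≃ Fin n)
    (htab : tabOK D = true) (r : Fin D.nroots) (h : chkRoot D n bZ Ep r.val = true) (t : K)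
    (I : D.Idx) :
    (EK n Ep K r.val t).submatrix e e * (bK n bZ K (code D I)).submatrix e e =
      (∑ J : D.Idx, D.xMat K r t J I • (bK n bZ K (code D J)).submatrix e e) *
        (EK n Ep K r.val t).submatrix e e := by
  have key := congrArg (fun M => Matrix.submatrix M e e)
    (equiv_of_chkRoot D n bZ Ep K htab r h t I)
  rw [← Matrix.submatrix_mul_equiv _ _ e e e, ← Matrix.submatrix_mul_equiv _ _ e e e] at key
  rw [key]
  congr 1
  ext a b
  rw [Matrix.submatrix_apply, Matrix.sum_apply, Matrix.sum_apply]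
  rfl

end

/-- the integer table of the D4 model: Cartan elements, then root vectors -/
def d4bZ (k i j : ℕ) : ℤ :=
  cond (Nat.blt k 4) (tab3 hListD4 k i j) (tab3 nListD4 (Nat.sub k 4) i j)

/-- the root elements `1 + t N_r`, entry by entry -/
def d4Ep (r i j : ℕ) : List ℤ :=
  [cond (Nat.beq i j) 1 0, tab3 nListD4 r i j]

/-- the order `e1 e2 e3 e4 f1 f2 f3 f4` -/
def e8 : Fin 4 ⊕ Fin 4 ≃ Fin 8 := finSumFinEquiv

theorem e8_val (a : Fin 4 ⊕ Fin 4) : (e8 a).val = ix8 a := by
  rcases a with a | a <;> fin_cases a <;> rfl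

theorem beq_of_ne' (x y : ℕ) (h : x ≠ y) : Nat.beq x y = false := by
  rcases hb : Nat.beq x y with _ | _
  · rfl
  · exact absurd (Nat.eq_of_beq_eq_true hb) h

theorem beq_self' (x : ℕ) : Nat.beq x x = true := by
  rcases hb : Nat.beq x x with _ | _
  · exact absurd rfl (Nat.ne_of_beq_eq_false hb)
  · rfl

theorem ix8_ne (a c : Fin 4 ⊕ Fin 4) (h : a ≠ c) : ix8 a ≠ ix8 c := by
  intro hh
  apply h
  apply e8.injective
  apply Fin.ext
  rw [e8_val, e8_val, hh]

theorem d4_E_eq (K : Type u) [Field K] (r : ℕ) (t : K) :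
    (EK 8 d4Ep K r t).submatrix e8 e8 = ED4mat K r t := by
  ext a c
  simp only [Matrix.submatrix_apply, EK, Matrix.of_apply, d4Ep, ev_cons, ev_nil, ED4mat,
    Matrix.add_apply, Matrix.smul_apply, ND4, smul_eq_mul, e8_val, Matrix.one_apply]
  by_cases h : a = c
  · subst h
    rw [beq_self', if_pos rfl]
    simp only [cond_true]
    push_cast
    ring
  · rw [beq_of_ne' _ _ (ix8_ne a c h), if_neg h]
    simp only [cond_false]
    push_cast
    ring

theorem d4_rank : chevD4.rank = 4 := rfl

theorem d4_b_eq (K : Type u) [Field K] (I : chevD4.Idx) :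
    (bK 8 d4bZ K (code chevD4 I)).submatrix e8 e8 = bD4 K I := by
  rcases I with i | s
  · ext a c
    have hi : i.val < 4 := i.2
    have h1 : Nat.blt i.val 4 = true := Nat.blt_eq.mpr hi
    simp only [Matrix.submatrix_apply, bK, Matrix.of_apply, code, Sum.elim_inl, d4bZ, h1,
      cond_true, bD4, HD4, e8_val]
  · ext a c
    have h1 : Nat.blt (chevD4.rank + s.val) 4 = false := by
      rcases hb : Nat.blt (chevD4.rank + s.val) 4 with _ | _
      · rfl
      · have := Nat.blt_eq.mp hb
        rw [d4_rank] at this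
        omega
    have h2 : Nat.sub (chevD4.rank + s.val) 4 = s.val := by
      show chevD4.rank + s.val - 4 = s.val
      rw [d4_rank]
      omega
    simp only [Matrix.submatrix_apply, bK, Matrix.of_apply, code, Sum.elim_inr, d4bZ, h1,
      cond_false, h2, bD4, ND4, e8_val]

/-- package [EQUIV-D4-r] from the check of the root `r` -/
theorem pkgEquivD4At_of_chk (r : ℕ) (hr : r < chevD4.nroots)
    (h : chkRoot chevD4 8 d4bZ d4Ep r = true) : PkgEquivD4At.{u} r := by
  intro K _ hr' t I
  have key := equiv_of_chkRoot_reindex chevD4 8 d4bZ d4Ep K e8 d4_tabOK ⟨r, hr⟩ h t I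
  simp only [d4_b_eq, d4_E_eq] at key
  exact key

end Cfsg.Agent.Lib.Helper79.CHO
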