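import Mathlib

/-!
# CHO (S1082 / S1083): the abstract glue

`Γ ≤ G × H` a subgroup with projections `A ≤ G` and `R ≤ H`.  If the second projection is injective
on `Γ`, the fibre over `1 ∈ G` commutes with (the second projection of) `Γ`, and `A` has trivial
centre, then `A ≃* R ⧸ Z(R)`.
-/

set_option autoImplicit false

namespace Cfsg.Agent.Lib.Helper79.CHO

universe u v

/-- Abstract glue: a subgroup `Γ` of `G × H` whose second projection is injective, whose fibre over
`1` in the first coordinate is central in the second projection, and whose first projection `A` has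
trivial centre, gives `A ≃* R ⧸ Z(R)` for the second projection `R`. -/
theorem glue_of_subgroup {G : Type u} {H : Type v} [Group G] [Group H] (Γ : Subgroup (G × H))
    (A : Subgroup G) (R : Subgroup H)
    (hA : Γ.map (MonoidHom.fst G H) = A) (hR : Γ.map (MonoidHom.snd G H) = R)
    (hinj : ∀ p ∈ Γ, p.2 = 1 → p.1 = 1)
    (hker : ∀ p ∈ Γ, p.1 = 1 → ∀ q ∈ Γ, q.2 * p.2 = p.2 * q.2)
    (hZ : ∀ a ∈ A, (∀ b ∈ A, b * a = a * b) → a = 1) :
    Nonempty (A ≃* R ⧸ Subgroup.center R) := by
  subst hA
  subst hR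
  -- the two projections restricted to Γ
  let φ₁ : Γ →* Γ.map (MonoidHom.fst G H) := (MonoidHom.fst G H).subgroupMap Γ
  let φ₂ : Γ →* Γ.map (MonoidHom.snd G H) := (MonoidHom.snd G H).subgroupMap Γ
  have hφ₁s : Function.Surjective φ₁ := (MonoidHom.fst G H).subgroupMap_surjective Γ
  have hφ₂s : Function.Surjective φ₂ := (MonoidHom.snd G H).subgroupMap_surjective Γ
  have hφ₁v : ∀ p : Γ, ((φ₁ p : Γ.map (MonoidHom.fst G H)) : G) = (p : G × H).1 := fun p => rfl
  have hφ₂v : ∀ p : Γ, ((φ₂ p : Γ.map (MonoidHom.snd G H)) : H) = (p : G × H).2 := fun p => rfl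
  have hφ₂i : Function.Injective φ₂ := by
    rw [injective_iff_map_eq_one]
    intro p hp
    have h2 : (p : G × H).2 = 1 := by
      have := congrArg (fun x : Γ.map (MonoidHom.snd G H) => (x : H)) hp
      simpa [hφ₂v] using this
    have h1 : (p : G × H).1 = 1 := hinj p p.2 h2
    apply Subtype.ext
    exact Prod.ext h1 h2
  let e₂ : Γ ≃* Γ.map (MonoidHom.snd G H) := MulEquiv.ofBijective φ₂ ⟨hφ₂i, hφ₂s⟩
  let ψ : Γ.map (MonoidHom.snd G H) →* Γ.map (MonoidHom.fst G H) := φ₁.comp e₂.symm.toMonoidHom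
  have hψs : Function.Surjective ψ := by
    intro a
    obtain ⟨p, rfl⟩ := hφ₁s a
    exact ⟨e₂ p, by simp [ψ]⟩
  have hψ : ∀ p : Γ, ψ (φ₂ p) = φ₁ p := by
    intro p
    have : e₂ p = φ₂ p := rfl
    rw [← this]
    simp [ψ]
  have hker' : ψ.ker = Subgroup.center (Γ.map (MonoidHom.snd G H)) := by
    ext r
    obtain ⟨p, rfl⟩ := hφ₂s r
    rw [MonoidHom.mem_ker, hψ, Subgroup.mem_center_iff]
    constructor
    · intro h1 r'
      obtain ⟨q, rfl⟩ := hφ₂s r'
      have hp1 : (p : G × H).1 = 1 := by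
        have := congrArg (fun x : Γ.map (MonoidHom.fst G H) => (x : G)) h1
        simpa [hφ₁v] using this
      apply Subtype.ext
      simp only [Subgroup.coe_mul, hφ₂v]
      exact hker p p.2 hp1 q q.2
    · intro hc
      have hcomm : ∀ q : Γ, q * p = p * q := by
        intro q
        apply hφ₂i
        rw [map_mul, map_mul]
        exact hc (φ₂ q)
      have hp1 : (p : G × H).1 = 1 := by
        apply hZ _ (φ₁ p).2
        intro b hb
        obtain ⟨q, hq⟩ := hφ₁s ⟨b, hb⟩
        have hq1 : (q : G × H).1 = b := by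
          have := congrArg (fun x : Γ.map (MonoidHom.fst G H) => (x : G)) hq
          simpa [hφ₁v] using this
        have := congrArg (fun x : Γ => (x : G × H).1) (hcomm q)
        rw [hφ₁v, ← hq1]
        simpa using this
      apply Subtype.ext
      simpa [hφ₁v] using hp1
  exact ⟨((QuotientGroup.quotientKerEquivOfSurjective ψ hψs).symm).trans
    (QuotientGroup.quotientMulEquivOfEq hker')⟩

/-- Closure form of `glue_of_subgroup`: `S ⊆ G × H` a set of generator pairs. -/
theorem glue_of_closure {G : Type u} {H : Type v} [Group G] [Group H] (S : Set (G × H))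
    (A : Subgroup G) (R : Subgroup H)
    (hA : Subgroup.closure (Prod.fst '' S) = A) (hR : Subgroup.closure (Prod.snd '' S) = R)
    (hinj : ∀ p ∈ Subgroup.closure S, p.2 = 1 → p.1 = 1)
    (hker : ∀ p ∈ Subgroup.closure S, p.1 = 1 → ∀ q ∈ Subgroup.closure S, q.2 * p.2 = p.2 * q.2)
    (hZ : ∀ a ∈ A, (∀ b ∈ A, b * a = a * b) → a = 1) :
    Nonempty (A ≃* R ⧸ Subgroup.center R) := by
  refine glue_of_subgroup (Subgroup.closure S) A R ?_ ?_ hinj hker hZ
  · rw [MonoidHom.map_closure]; exact hA
  · rw [MonoidHom.map_closure]; exact hR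

/-- A simple non-commutative group has trivial centre (elementwise form on a subgroup). -/
theorem central_eq_one_of_simple {G : Type u} [Group G] (A : Subgroup G)
    (hs : IsSimpleGroup A ∧ ¬ IsMulCommutative A) :
    ∀ a ∈ A, (∀ b ∈ A, b * a = a * b) → a = 1 := by
  obtain ⟨hs1, hs2⟩ := hs
  intro a ha hc
  have hmem : (⟨a, ha⟩ : A) ∈ Subgroup.center A := by
    rw [Subgroup.mem_center_iff]
    intro g
    apply Subtype.ext
    exact hc g g.2
  rcases IsSimpleGroup.eq_bot_or_eq_top_of_normal (Subgroup.center A) inferInstance with hb | ht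
  · rw [hb, Subgroup.mem_bot] at hmem
    exact congrArg Subtype.val hmem
  · exfalso
    apply hs2
    refine ⟨⟨fun x y => ?_⟩⟩
    have hy : y ∈ Subgroup.center A := by rw [ht]; exact Subgroup.mem_top y
    rw [Subgroup.mem_center_iff] at hy
    exact hy x

/-- The glue in the shape of S1082 / S1083: `A` simple non-commutative. -/
theorem glue_of_closure_simple {G : Type u} {H : Type v} [Group G] [Group H] (S : Set (G × H))
    (A : Subgroup G) (R : Subgroup H)
    (hA : Subgroup.closure (Prod.fst '' S) = A) (hR : Subgroup.closure (Prod.snd '' S) = R)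
    (hinj : ∀ p ∈ Subgroup.closure S, p.2 = 1 → p.1 = 1)
    (hker : ∀ p ∈ Subgroup.closure S, p.1 = 1 → ∀ q ∈ Subgroup.closure S, q.2 * p.2 = p.2 * q.2)
    (hs : IsSimpleGroup A ∧ ¬ IsMulCommutative A) :
    Nonempty (A ≃* R ⧸ Subgroup.center R) :=
  glue_of_closure S A R hA hR hinj hker (central_eq_one_of_simple A hs)

end Cfsg.Agent.Lib.Helper79.CHO
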