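import Cfsg.Agent.Lib.Helper79.CHO.GlueMat
import Cfsg.Prelude.Def_Chevalley
import Cfsg.Prelude.Def_Classical

/-!
# CHO (S1082 / S1083): the glue in the shape of the two statements

`D` a Chevalley datum with `D.group F` simple non-commutative, `E r t ∈ H` (`ρ : H →* GL ι F`
injective, e.g. `H = isometryGroup F Q`, `ρ` the inclusion) with
`ρ (E r t) * b I = (∑ J, (D.xMat F r t) J I • b J) * ρ (E r t)` for a linearly independent family
`b : D.Idx → Matrix ι ι F` with central commutant: then `D.group F ≃* R ⧸ Z(R)`, `R = ⟨E r t⟩`.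
-/

set_option autoImplicit false

namespace Cfsg.Agent.Lib.Helper79.CHO

universe u v

open Matrix

/-- The glue for a Chevalley datum. -/
theorem chev_equiv_of_equivariant {F : Type u} [Field F] (D : Cfsg.Lie.ChevalleyDatum)
    {ι : Type} [Fintype ι] [DecidableEq ι] {H : Type v} [Group H] (ρ : H →* GL ι F)
    (hρ : Function.Injective ρ)
    (b : D.Idx → Matrix ι ι F) (hb : LinearIndependent F b)
    (hcomm : ∀ M : Matrix ι ι F, (∀ I, M * b I = b I * M) → ∀ N : Matrix ι ι F, N * M = M * N)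
    (E : Fin D.nroots → F → H)
    (hx : ∀ (r : Fin D.nroots) (t : F),
      ∃ g : GL D.Idx F, (g : Matrix D.Idx D.Idx F) = D.xMat F r t)
    (hE : ∀ (r : Fin D.nroots) (t : F) (I : D.Idx),
      (ρ (E r t) : Matrix ι ι F) * b I
        = (∑ J, D.xMat F r t J I • b J) * (ρ (E r t) : Matrix ι ι F))
    (R : Subgroup H) (hR : Subgroup.closure {e : H | ∃ (r : Fin D.nroots) (t : F), e = E r t} = R)
    (hs : IsSimpleGroup ↥(D.group F) ∧ ¬ IsMulCommutative ↥(D.group F)) :
    Nonempty (↥(D.group F) ≃* R ⧸ Subgroup.center R) := by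
  let S : Set (GL D.Idx F × H) :=
    {p | ∃ (r : Fin D.nroots) (t : F), (p.1 : Matrix D.Idx D.Idx F) = D.xMat F r t ∧ p.2 = E r t}
  refine glue_of_equivariant_basis ρ hρ b hb hcomm S ?_ (D.group F) R ?_ ?_ hs
  · rintro p ⟨r, t, h1, h2⟩ I
    rw [h1, h2]
    exact hE r t I
  · have : Prod.fst '' S
        = {g : GL D.Idx F | ∃ (r : Fin D.nroots) (t : F),
            (g : Matrix D.Idx D.Idx F) = D.xMat F r t} := by
      ext g
      constructor
      · rintro ⟨p, ⟨r, t, h1, _⟩, rfl⟩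
        exact ⟨r, t, h1⟩
      · rintro ⟨r, t, h1⟩
        exact ⟨(g, E r t), ⟨r, t, h1, rfl⟩, rfl⟩
    rw [this]
    rfl
  · have : Prod.snd '' S = {e : H | ∃ (r : Fin D.nroots) (t : F), e = E r t} := by
      ext e
      constructor
      · rintro ⟨p, ⟨r, t, _, h2⟩, rfl⟩
        exact ⟨r, t, h2⟩
      · rintro ⟨r, t, rfl⟩
        obtain ⟨g, hg⟩ := hx r t
        exact ⟨(g, E r t), ⟨r, t, hg, rfl⟩, rfl⟩
    rw [this]
    exact hR

/-- The shape of S1082 / S1083: root elements `E r t` in the isometry group of `Q` generating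
`Ω(Q)`. -/
theorem chev_equiv_pomega {F : Type u} [Field F] (D : Cfsg.Lie.ChevalleyDatum)
    {ι : Type} [Fintype ι] [DecidableEq ι] (Q : (ι → F) → F)
    (b : D.Idx → Matrix ι ι F) (hb : LinearIndependent F b)
    (hcomm : ∀ M : Matrix ι ι F, (∀ I, M * b I = b I * M) → ∀ N : Matrix ι ι F, N * M = M * N)
    (E : Fin D.nroots → F → Cfsg.isometryGroup F Q)
    (hx : ∀ (r : Fin D.nroots) (t : F),
      ∃ g : GL D.Idx F, (g : Matrix D.Idx D.Idx F) = D.xMat F r t)
    (hE : ∀ (r : Fin D.nroots) (t : F) (I : D.Idx),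
      (((E r t : Cfsg.isometryGroup F Q) : GL ι F) : Matrix ι ι F) * b I
        = (∑ J, D.xMat F r t J I • b J) * (((E r t : Cfsg.isometryGroup F Q) : GL ι F) : Matrix ι ι F))
    (hR : Subgroup.closure {e : Cfsg.isometryGroup F Q | ∃ (r : Fin D.nroots) (t : F), e = E r t}
      = Cfsg.Omega F Q)
    (hs : IsSimpleGroup ↥(D.group F) ∧ ¬ IsMulCommutative ↥(D.group F)) :
    Nonempty (↥(D.group F) ≃* Cfsg.POmega F Q) :=
  chev_equiv_of_equivariant D (Cfsg.isometryGroup F Q).subtype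
    (Subgroup.subtype_injective _) b hb hcomm E hx hE (Cfsg.Omega F Q) hR hs

end Cfsg.Agent.Lib.Helper79.CHO
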