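import Cfsg.Agent.Lib.Helper79.CHO.Glue

/-!
# CHO (S1082 / S1083): the glue for an equivariant map into matrices

`S` a set of pairs `(x, E)`, `x ∈ GL κ K`, `E ∈ H` with `ρ : H →* GL ι K` injective, and
`β : (κ → K) → Matrix ι ι K` injective with `ρ E * β v = β (x *ᵥ v) * ρ E` on `S`, the commutant
of the image of `β` central in `Matrix ι ι K`: then `A ≃* R ⧸ Z(R)` for the groups `A`, `R`
generated by the two projections of `S`, as soon as `A` is simple non-commutative.
-/

set_option autoImplicit false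

namespace Cfsg.Agent.Lib.Helper79.CHO

universe u v

open Matrix

/-- The equivariance passes to the generated subgroup. -/
theorem equivariant_closure {K : Type u} [Field K] {κ ι : Type} [Fintype κ] [DecidableEq κ]
    [Fintype ι] [DecidableEq ι] {H : Type v} [Group H] (ρ : H →* GL ι K)
    (β : (κ → K) → Matrix ι ι K) (S : Set (GL κ K × H))
    (hS : ∀ p ∈ S, ∀ v : κ → K,
      (ρ p.2 : Matrix ι ι K) * β v = β ((p.1 : Matrix κ κ K) *ᵥ v) * (ρ p.2 : Matrix ι ι K)) :
    ∀ p ∈ Subgroup.closure S, ∀ v : κ → K,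
      (ρ p.2 : Matrix ι ι K) * β v = β ((p.1 : Matrix κ κ K) *ᵥ v) * (ρ p.2 : Matrix ι ι K) := by
  intro p hp
  induction hp using Subgroup.closure_induction with
  | mem p hp => exact hS p hp
  | one => intro v; simp
  | mul p q _ _ ihp ihq =>
    intro v
    have h1 : ((ρ (p * q).2 : GL ι K) : Matrix ι ι K)
        = (ρ p.2 : Matrix ι ι K) * (ρ q.2 : Matrix ι ι K) := by
      simp [Prod.snd_mul, map_mul]
    have h2 : (((p * q).1 : GL κ K) : Matrix κ κ K) *ᵥ v
        = (p.1 : Matrix κ κ K) *ᵥ ((q.1 : Matrix κ κ K) *ᵥ v) := by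
      simp [Prod.fst_mul, Matrix.mulVec_mulVec]
    rw [h1, h2, Matrix.mul_assoc, ihq v, ← Matrix.mul_assoc, ihp, Matrix.mul_assoc]
  | inv p _ ihp =>
    intro v
    have h1 : ((ρ (p⁻¹).2 : GL ι K) : Matrix ι ι K) * (ρ p.2 : Matrix ι ι K) = 1 := by
      simp
    have h1' : (ρ p.2 : Matrix ι ι K) * ((ρ (p⁻¹).2 : GL ι K) : Matrix ι ι K) = 1 := by
      simp
    have h2 : (p.1 : Matrix κ κ K) *ᵥ ((((p⁻¹).1 : GL κ K) : Matrix κ κ K) *ᵥ v) = v := by
      have : p.1 * (p⁻¹).1 = (1 : GL κ K) := by simp [Prod.fst_inv]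
      have := congrArg (fun g : GL κ K => (g : Matrix κ κ K)) this
      rw [Matrix.mulVec_mulVec]
      simp only [Units.val_mul, Units.val_one] at this
      rw [this, Matrix.one_mulVec]
    have h3 := ihp ((((p⁻¹).1 : GL κ K) : Matrix κ κ K) *ᵥ v)
    rw [h2] at h3
    -- h3 : ρ p₂ * β (x⁻¹ v) = β v * ρ p₂
    calc ((ρ (p⁻¹).2 : GL ι K) : Matrix ι ι K) * β v
        = ((ρ (p⁻¹).2 : GL ι K) : Matrix ι ι K) * (β v * (ρ p.2 : Matrix ι ι K))
            * ((ρ (p⁻¹).2 : GL ι K) : Matrix ι ι K) := by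
          rw [Matrix.mul_assoc, Matrix.mul_assoc, h1', Matrix.mul_one]
      _ = ((ρ (p⁻¹).2 : GL ι K) : Matrix ι ι K)
            * ((ρ p.2 : Matrix ι ι K) * β ((((p⁻¹).1 : GL κ K) : Matrix κ κ K) *ᵥ v))
            * ((ρ (p⁻¹).2 : GL ι K) : Matrix ι ι K) := by rw [h3]
      _ = β ((((p⁻¹).1 : GL κ K) : Matrix κ κ K) *ᵥ v)
            * ((ρ (p⁻¹).2 : GL ι K) : Matrix ι ι K) := by
          rw [← Matrix.mul_assoc, h1, Matrix.one_mul]

/-- The glue for an equivariant injective map `β` whose image has central commutant. -/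
theorem glue_of_equivariant {K : Type u} [Field K] {κ ι : Type} [Fintype κ] [DecidableEq κ]
    [Fintype ι] [DecidableEq ι] {H : Type v} [Group H] (ρ : H →* GL ι K)
    (hρ : Function.Injective ρ)
    (β : (κ → K) → Matrix ι ι K) (hβ : Function.Injective β)
    (hcomm : ∀ M : Matrix ι ι K, (∀ v, M * β v = β v * M) → ∀ N : Matrix ι ι K, N * M = M * N)
    (S : Set (GL κ K × H))
    (hS : ∀ p ∈ S, ∀ v : κ → K,
      (ρ p.2 : Matrix ι ι K) * β v = β ((p.1 : Matrix κ κ K) *ᵥ v) * (ρ p.2 : Matrix ι ι K))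
    (A : Subgroup (GL κ K)) (R : Subgroup H)
    (hA : Subgroup.closure (Prod.fst '' S) = A) (hR : Subgroup.closure (Prod.snd '' S) = R)
    (hs : IsSimpleGroup A ∧ ¬ IsMulCommutative A) :
    Nonempty (A ≃* R ⧸ Subgroup.center R) := by
  have hcl := equivariant_closure ρ β S hS
  refine glue_of_closure_simple S A R hA hR ?_ ?_ hs
  · intro p hp h2
    have h := hcl p hp
    rw [h2] at h
    have hv : ∀ v : κ → K, (p.1 : Matrix κ κ K) *ᵥ v = v := by
      intro v
      have := h v
      simp only [map_one, Units.val_one, Matrix.one_mul, Matrix.mul_one] at this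
      exact (hβ this).symm
    apply Units.ext
    have : (p.1 : Matrix κ κ K) = 1 := by
      apply Matrix.toLin'.injective
      apply LinearMap.ext
      intro v
      simp [hv v]
    simpa using this
  · intro p hp h1 q _
    have h := hcl p hp
    rw [h1] at h
    have hc : ∀ v, (ρ p.2 : Matrix ι ι K) * β v = β v * (ρ p.2 : Matrix ι ι K) := by
      intro v
      have := h v
      simpa using this
    have := hcomm _ hc (ρ q.2 : Matrix ι ι K)
    apply hρ
    apply Units.ext
    simpa using this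

/-- Basis form: `b : κ → Matrix ι ι K` linearly independent with
`ρ E * b I = (∑ J, x J I • b J) * ρ E` on the generator pairs. -/
theorem glue_of_equivariant_basis {K : Type u} [Field K] {κ ι : Type} [Fintype κ] [DecidableEq κ]
    [Fintype ι] [DecidableEq ι] {H : Type v} [Group H] (ρ : H →* GL ι K)
    (hρ : Function.Injective ρ)
    (b : κ → Matrix ι ι K) (hb : LinearIndependent K b)
    (hcomm : ∀ M : Matrix ι ι K, (∀ I, M * b I = b I * M) → ∀ N : Matrix ι ι K, N * M = M * N)
    (S : Set (GL κ K × H))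
    (hS : ∀ p ∈ S, ∀ I : κ,
      (ρ p.2 : Matrix ι ι K) * b I
        = (∑ J, (p.1 : Matrix κ κ K) J I • b J) * (ρ p.2 : Matrix ι ι K))
    (A : Subgroup (GL κ K)) (R : Subgroup H)
    (hA : Subgroup.closure (Prod.fst '' S) = A) (hR : Subgroup.closure (Prod.snd '' S) = R)
    (hs : IsSimpleGroup A ∧ ¬ IsMulCommutative A) :
    Nonempty (A ≃* R ⧸ Subgroup.center R) := by
  refine glue_of_equivariant ρ hρ (fun v => ∑ I, v I • b I) ?_ ?_ S ?_ A R hA hR hs
  · intro v w hvw
    have h0 : ∑ I, (v I - w I) • b I = 0 := by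
      simp only [sub_smul, Finset.sum_sub_distrib]
      exact sub_eq_zero.mpr hvw
    have := Fintype.linearIndependent_iff.mp hb (fun I => v I - w I) h0
    funext I
    exact sub_eq_zero.mp (this I)
  · intro M hM
    apply hcomm
    intro I
    have := hM (Pi.single I 1)
    simpa [Pi.single_apply, ite_smul] using this
  · intro p hp v
    simp only [Matrix.mul_sum, Matrix.mul_smul, Matrix.sum_mul, Matrix.smul_mul]
    have h1 : ∀ I, v I • ((ρ p.2 : Matrix ι ι K) * b I)
        = ∑ J, (v I * (p.1 : Matrix κ κ K) J I) • (b J * (ρ p.2 : Matrix ι ι K)) := by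
      intro I
      rw [hS p hp I, Matrix.sum_mul, Finset.smul_sum]
      refine Finset.sum_congr rfl fun J _ => ?_
      rw [Matrix.smul_mul, smul_smul]
    rw [Finset.sum_congr rfl fun I _ => h1 I, Finset.sum_comm]
    refine Finset.sum_congr rfl fun J _ => ?_
    rw [← Finset.sum_smul]
    congr 1
    simp only [Matrix.mulVec, dotProduct]
    refine Finset.sum_congr rfl fun I _ => ?_
    ring

end Cfsg.Agent.Lib.Helper79.CHO
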