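import Cfsg.Agent.Lib.Helper79.CHO.GlueChev

/-!
# CHO (S1082 / S1083): the glue without linear independence

In characteristic 2 no injective equivariant `β` exists; injectivity of the second projection of
`Γ` follows instead from the simplicity of `A` and the non-commutativity of `R`.
-/

set_option autoImplicit false

namespace Cfsg.Agent.Lib.Helper79.CHO

universe u v

open Matrix

/-- Abstract glue, simple form: `A` simple non-commutative, the fibre of `Γ` over `1 ∈ G`
commuting with the second projection, two elements of `Γ` with non-commuting second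
coordinates. -/
theorem glue_of_subgroup_nc {G : Type u} {H : Type v} [Group G] [Group H] (Γ : Subgroup (G × H))
    (A : Subgroup G) (R : Subgroup H)
    (hA : Γ.map (MonoidHom.fst G H) = A) (hR : Γ.map (MonoidHom.snd G H) = R)
    (hker : ∀ p ∈ Γ, p.1 = 1 → ∀ q ∈ Γ, q.2 * p.2 = p.2 * q.2)
    (hs : IsSimpleGroup A ∧ ¬ IsMulCommutative A)
    (hnc : ∃ p ∈ Γ, ∃ q ∈ Γ, p.2 * q.2 ≠ q.2 * p.2) :
    Nonempty (A ≃* R ⧸ Subgroup.center R) := by
  refine glue_of_subgroup Γ A R hA hR ?_ hker (central_eq_one_of_simple A hs)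
  have hfst : ∀ p ∈ Γ, p.1 ∈ A := by
    intro p hp
    rw [← hA]
    exact ⟨p, hp, rfl⟩
  have hlift : ∀ b ∈ A, ∃ q ∈ Γ, q.1 = b := by
    intro b hb
    rw [← hA] at hb
    obtain ⟨q, hq, rfl⟩ := hb
    exact ⟨q, hq, rfl⟩
  let N₁ : Subgroup A :=
    { carrier := {a | ((a : G), (1 : H)) ∈ Γ}
      one_mem' := Γ.one_mem
      mul_mem' := by
        intro a b ha hb
        have := Γ.mul_mem ha hb
        simpa using this
      inv_mem' := by
        intro a ha
        have := Γ.inv_mem ha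
        simpa using this }
  have hN₁ : ∀ a : A, a ∈ N₁ ↔ ((a : G), (1 : H)) ∈ Γ := fun a => Iff.rfl
  have hnorm : N₁.Normal := by
    refine ⟨fun a ha b => ?_⟩
    obtain ⟨q, hq, hqb⟩ := hlift b b.2
    rw [hN₁] at ha ⊢
    have := Γ.mul_mem (Γ.mul_mem hq ha) (Γ.inv_mem hq)
    have e : q * ((a : G), (1 : H)) * q⁻¹ = (((b * a * b⁻¹ : A) : G), (1 : H)) := by
      apply Prod.ext
      · simp [hqb]
      · simp
    rw [e] at this
    exact this
  have := hs.1
  rcases IsSimpleGroup.eq_bot_or_eq_top_of_normal N₁ hnorm with hb | ht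
  · intro p hp h2
    have hmem : (⟨p.1, hfst p hp⟩ : A) ∈ N₁ := by
      rw [hN₁]
      have : ((p.1 : G), (1 : H)) = p := Prod.ext rfl h2.symm
      rw [this]
      exact hp
    rw [hb, Subgroup.mem_bot] at hmem
    exact congrArg Subtype.val hmem
  · exfalso
    obtain ⟨p, hp, q, hq, hpq⟩ := hnc
    have hmem : (⟨p.1, hfst p hp⟩ : A) ∈ N₁ := by rw [ht]; exact Subgroup.mem_top _
    rw [hN₁] at hmem
    have h1 : ((p.1 : G), (1 : H))⁻¹ * p ∈ Γ := Γ.mul_mem (Γ.inv_mem hmem) hp
    have h2 := hker _ h1 (by simp) q hq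
    apply hpq
    have e : (((p.1 : G), (1 : H))⁻¹ * p).2 = p.2 := by simp
    rw [e] at h2
    exact h2.symm

/-- Closure form of `glue_of_subgroup_nc`. -/
theorem glue_of_closure_nc {G : Type u} {H : Type v} [Group G] [Group H] (S : Set (G × H))
    (A : Subgroup G) (R : Subgroup H)
    (hA : Subgroup.closure (Prod.fst '' S) = A) (hR : Subgroup.closure (Prod.snd '' S) = R)
    (hker : ∀ p ∈ Subgroup.closure S, p.1 = 1 → ∀ q ∈ Subgroup.closure S, q.2 * p.2 = p.2 * q.2)
    (hs : IsSimpleGroup A ∧ ¬ IsMulCommutative A)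
    (hnc : ∃ p ∈ S, ∃ q ∈ S, p.2 * q.2 ≠ q.2 * p.2) :
    Nonempty (A ≃* R ⧸ Subgroup.center R) := by
  refine glue_of_subgroup_nc (Subgroup.closure S) A R ?_ ?_ hker hs ?_
  · rw [MonoidHom.map_closure]; exact hA
  · rw [MonoidHom.map_closure]; exact hR
  · obtain ⟨p, hp, q, hq, hpq⟩ := hnc
    exact ⟨p, Subgroup.subset_closure hp, q, Subgroup.subset_closure hq, hpq⟩

/-- The glue for an equivariant map `β` (NOT assumed injective) whose image has central
commutant. -/
theorem glue_of_equivariant_nc {K : Type u} [Field K] {κ ι : Type} [Fintype κ] [DecidableEq κ]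
    [Fintype ι] [DecidableEq ι] {H : Type v} [Group H] (ρ : H →* GL ι K)
    (hρ : Function.Injective ρ)
    (β : (κ → K) → Matrix ι ι K)
    (hcomm : ∀ M : Matrix ι ι K, (∀ v, M * β v = β v * M) → ∀ N : Matrix ι ι K, N * M = M * N)
    (S : Set (GL κ K × H))
    (hS : ∀ p ∈ S, ∀ v : κ → K,
      (ρ p.2 : Matrix ι ι K) * β v = β ((p.1 : Matrix κ κ K) *ᵥ v) * (ρ p.2 : Matrix ι ι K))
    (A : Subgroup (GL κ K)) (R : Subgroup H)
    (hA : Subgroup.closure (Prod.fst '' S) = A) (hR : Subgroup.closure (Prod.snd '' S) = R)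
    (hs : IsSimpleGroup A ∧ ¬ IsMulCommutative A)
    (hnc : ∃ p ∈ S, ∃ q ∈ S, p.2 * q.2 ≠ q.2 * p.2) :
    Nonempty (A ≃* R ⧸ Subgroup.center R) := by
  have hcl := equivariant_closure ρ β S hS
  refine glue_of_closure_nc S A R hA hR ?_ hs hnc
  intro p hp h1 q _
  have h := hcl p hp
  rw [h1] at h
  have hc : ∀ v, (ρ p.2 : Matrix ι ι K) * β v = β v * (ρ p.2 : Matrix ι ι K) := by
    intro v
    have := h v
    simpa using this
  have := hcomm _ hc (ρ q.2 : Matrix ι ι K)
  apply hρ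
  apply Units.ext
  simpa using this

/-- The glue for a Chevalley datum, without linear independence of the `b I`. -/
theorem chev_equiv_of_equivariant_nc {F : Type u} [Field F] (D : Cfsg.Lie.ChevalleyDatum)
    {ι : Type} [Fintype ι] [DecidableEq ι] {H : Type v} [Group H] (ρ : H →* GL ι F)
    (hρ : Function.Injective ρ)
    (b : D.Idx → Matrix ι ι F)
    (hcomm : ∀ M : Matrix ι ι F, (∀ I, M * b I = b I * M) → ∀ N : Matrix ι ι F, N * M = M * N)
    (E : Fin D.nroots → F → H)
    (hx : ∀ (r : Fin D.nroots) (t : F),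
      ∃ g : GL D.Idx F, (g : Matrix D.Idx D.Idx F) = D.xMat F r t)
    (hE : ∀ (r : Fin D.nroots) (t : F) (I : D.Idx),
      (ρ (E r t) : Matrix ι ι F) * b I
        = (∑ J, D.xMat F r t J I • b J) * (ρ (E r t) : Matrix ι ι F))
    (R : Subgroup H) (hR : Subgroup.closure {e : H | ∃ (r : Fin D.nroots) (t : F), e = E r t} = R)
    (hs : IsSimpleGroup ↥(D.group F) ∧ ¬ IsMulCommutative ↥(D.group F))
    (hnc : ∃ (r : Fin D.nroots) (t : F) (r' : Fin D.nroots) (t' : F),
      E r t * E r' t' ≠ E r' t' * E r t) :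
    Nonempty (↥(D.group F) ≃* R ⧸ Subgroup.center R) := by
  let S : Set (GL D.Idx F × H) :=
    {p | ∃ (r : Fin D.nroots) (t : F), (p.1 : Matrix D.Idx D.Idx F) = D.xMat F r t ∧ p.2 = E r t}
  refine glue_of_equivariant_nc ρ hρ (fun v => ∑ I, v I • b I) ?_ S ?_ (D.group F) R ?_ ?_ hs ?_
  · intro M hM
    apply hcomm
    intro I
    have := hM (Pi.single I 1)
    simpa [Pi.single_apply, ite_smul] using this
  · rintro p ⟨r, t, h1, h2⟩ v
    simp only [Matrix.mul_sum, Matrix.mul_smul, Matrix.sum_mul, Matrix.smul_mul]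
    have h1' : ∀ I, v I • ((ρ p.2 : Matrix ι ι F) * b I)
        = ∑ J, (v I * (p.1 : Matrix D.Idx D.Idx F) J I) • (b J * (ρ p.2 : Matrix ι ι F)) := by
      intro I
      rw [h2, hE r t I, Matrix.sum_mul, Finset.smul_sum, h1]
      refine Finset.sum_congr rfl fun J _ => ?_
      rw [Matrix.smul_mul, smul_smul]
    rw [Finset.sum_congr rfl fun I _ => h1' I, Finset.sum_comm]
    refine Finset.sum_congr rfl fun J _ => ?_
    rw [← Finset.sum_smul]
    congr 1
    simp only [Matrix.mulVec, dotProduct]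
    refine Finset.sum_congr rfl fun I _ => ?_
    ring
  · have : Prod.fst '' S
        = {g : GL D.Idx F | ∃ (r : Fin D.nroots) (t : F),
            (g : Matrix D.Idx D.Idx F) = D.xMat F r t} := by
      ext g
      constructor
      · rintro ⟨p, ⟨r, t, h1, _⟩, rfl⟩
        exact ⟨r, t, h1⟩
      · rintro ⟨r, t, h1⟩
        exact ⟨(g, E r t), ⟨r, t, h1, rfl⟩, rfl⟩
    rw [this]
    rfl
  · have : Prod.snd '' S = {e : H | ∃ (r : Fin D.nroots) (t : F), e = E r t} := by
      ext e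
      constructor
      · rintro ⟨p, ⟨r, t, _, h2⟩, rfl⟩
        exact ⟨r, t, h2⟩
      · rintro ⟨r, t, rfl⟩
        obtain ⟨g, hg⟩ := hx r t
        exact ⟨(g, E r t), ⟨r, t, hg, rfl⟩, rfl⟩
    rw [this]
    exact hR
  · obtain ⟨r, t, r', t', hne⟩ := hnc
    obtain ⟨g, hg⟩ := hx r t
    obtain ⟨g', hg'⟩ := hx r' t'
    exact ⟨(g, E r t), ⟨r, t, hg, rfl⟩, (g', E r' t'), ⟨r', t', hg', rfl⟩, hne⟩

/-- The shape of S1082 / S1083, valid in every characteristic: no linear independence of the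
`b I` is needed; instead two root elements that do not commute. -/
theorem chev_equiv_pomega_nc {F : Type u} [Field F] (D : Cfsg.Lie.ChevalleyDatum)
    {ι : Type} [Fintype ι] [DecidableEq ι] (Q : (ι → F) → F)
    (b : D.Idx → Matrix ι ι F)
    (hcomm : ∀ M : Matrix ι ι F, (∀ I, M * b I = b I * M) → ∀ N : Matrix ι ι F, N * M = M * N)
    (E : Fin D.nroots → F → Cfsg.isometryGroup F Q)
    (hx : ∀ (r : Fin D.nroots) (t : F),
      ∃ g : GL D.Idx F, (g : Matrix D.Idx D.Idx F) = D.xMat F r t)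
    (hE : ∀ (r : Fin D.nroots) (t : F) (I : D.Idx),
      (((E r t : Cfsg.isometryGroup F Q) : GL ι F) : Matrix ι ι F) * b I
        = (∑ J, D.xMat F r t J I • b J) * (((E r t : Cfsg.isometryGroup F Q) : GL ι F) : Matrix ι ι F))
    (hR : Subgroup.closure {e : Cfsg.isometryGroup F Q | ∃ (r : Fin D.nroots) (t : F), e = E r t}
      = Cfsg.Omega F Q)
    (hs : IsSimpleGroup ↥(D.group F) ∧ ¬ IsMulCommutative ↥(D.group F))
    (hnc : ∃ (r : Fin D.nroots) (t : F) (r' : Fin D.nroots) (t' : F),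
      E r t * E r' t' ≠ E r' t' * E r t) :
    Nonempty (↥(D.group F) ≃* Cfsg.POmega F Q) :=
  chev_equiv_of_equivariant_nc D (Cfsg.isometryGroup F Q).subtype
    (Subgroup.subtype_injective _) b hcomm E hx hE (Cfsg.Omega F Q) hR hs hnc

end Cfsg.Agent.Lib.Helper79.CHO
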